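import Cfsg.Agent.Lib.PComplement.GlaubermanThompson
import Cfsg.Agent.Lib.Coprime.Sylow
import Cfsg.Agent.Lib.Transfer.Residual
import Cfsg.Agent.Lib.Transfer.ConjFamily
import Cfsg.Agent.Lib.Transfer.Fusion
import Cfsg.Agent.Lib.Solvable.Schmidt

/-!
# Nilpotent maximal subgroups

* `sylow_normalizer`: in a core-free situation the Sylow subgroups of `M` are Sylow in `G` with
  normalizer `M`;
* `hasNormalPComplement_odd`, `hasNormalPComplement_class_two`: normal `p`-complements;
* `isSolvable_of_complements`, `isSolvable_of_quotient`.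
-/

set_option autoImplicit false

namespace Cfsg.Agent.NilpotentMaximal

open Subgroup

universe u

variable {G : Type u} [Group G] [Finite G] {M : Subgroup G}

theorem normalizer_eq (hmax : IsCoatom M) (hcore : M.normalCore = ⊥) {R : Subgroup G} (hle : R ≤ M)
    (hne : R ≠ ⊥) (hn : M ≤ normalizer (R : Set G)) : normalizer (R : Set G) = M :=
  (hmax.le_iff.1 hn).resolve_left fun e => hne (by
    haveI := normalizer_eq_top_iff.1 e
    exact le_bot_iff.1 (hcore ▸ (normal_le_normalCore.2 hle)))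

theorem exists_sylow (hmax : IsCoatom M) (hnil : Group.IsNilpotent M) (hcore : M.normalCore = ⊥)
    {p : ℕ} [hp : Fact p.Prime] (hpM : p ∣ Nat.card M) :
    ∃ Q : Sylow p G, (Q : Subgroup G) ≤ M ∧ (Q : Subgroup G) ≠ ⊥ ∧
      normalizer ((Q : Subgroup G) : Set G) = M := by
  haveI := hnil
  have hmaxN : ∀ R : Subgroup G, R ≤ M → R ≠ ⊥ → M ≤ normalizer (R : Set G) →
      normalizer (R : Set G) = M := fun R => normalizer_eq hmax hcore
  let P₀ : Sylow p M := default
  haveI : (P₀ : Subgroup M).Normal :=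
    P₀.normal_of_normalizerCondition Group.normalizerCondition_of_isNilpotent
  set P := (P₀ : Subgroup M).map M.subtype with hP
  have hPM : P ≤ M := map_subtype_le _
  have hPp : IsPGroup p P := P₀.2.map _
  have hPne : P ≠ ⊥ := fun e => by
    have h1 := P₀.ne_bot_of_dvd_card hpM
    exact h1 (map_injective M.subtype_injective (by rw [Subgroup.map_bot]; exact e))
  have hMN : M ≤ normalizer (P : Set G) := by
    intro m hm
    rw [mem_normalizer_iff]
    have key : ∀ n ∈ M, ∀ x ∈ P, n * x * n⁻¹ ∈ P := by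
      rintro n hn _ ⟨x, hx, rfl⟩
      exact ⟨⟨n, hn⟩ * x * ⟨n, hn⟩⁻¹, Normal.conj_mem inferInstance x hx ⟨n, hn⟩, rfl⟩
    refine fun x => ⟨key m hm x, fun h => ?_⟩
    have h1 := key _ (inv_mem hm) _ h
    rwa [show m⁻¹ * (m * x * m⁻¹) * m⁻¹⁻¹ = x by group] at h1
  have hNP : normalizer (P : Set G) = M := hmaxN P hPM hPne hMN
  obtain ⟨Q, hPQ⟩ := hPp.exists_le_sylow
  haveI : Group.IsNilpotent (Q : Subgroup G) := Q.2.isNilpotent
  have hQP : (Q : Subgroup G) ≤ P := by
    by_contra hlt
    have hne : P.subgroupOf (Q : Subgroup G) < ⊤ :=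
      lt_top_iff_ne_top.2 fun e => hlt (subgroupOf_eq_top.1 e)
    obtain ⟨x, hxn, hx⟩ := SetLike.exists_of_lt (Group.normalizerCondition_of_isNilpotent _ hne)
    have hxN : (x : G) ∈ normalizer (P : Set G) := by
      rw [mem_normalizer_iff]
      intro y
      constructor
      · intro hy
        exact (mem_normalizer_iff.1 hxn ⟨y, hPQ hy⟩).1 hy
      · intro hy
        have hyQ : y ∈ (Q : Subgroup G) := by
          have h1 := mul_mem (mul_mem (inv_mem x.2) (hPQ hy)) x.2
          simpa [mul_assoc] using h1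
        exact (mem_normalizer_iff.1 hxn ⟨y, hyQ⟩).2 hy
    have hle : P ⊔ zpowers (x : G) ≤ M :=
      sup_le hPM (zpowers_le.2 (hNP ▸ hxN))
    have hpg : IsPGroup p (P ⊔ zpowers (x : G) : Subgroup G) :=
      Q.2.to_le (sup_le hPQ (zpowers_le.2 x.2))
    have h2 := P₀.is_maximal' (Q := (P ⊔ zpowers (x : G)).subgroupOf M)
      (hpg.comap_of_injective _ M.subtype_injective)
      (map_le_iff_le_comap.1 le_sup_left)
    have h3 : P ⊔ zpowers (x : G) = P :=
      ((map_subgroupOf_eq_of_le hle).symm.trans (congrArg (map M.subtype) h2)).trans hP.symm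
    exact hx (mem_subgroupOf.2 (h3 ▸ (le_sup_right : zpowers (x : G) ≤ _) (mem_zpowers _)))
  have hQeq : (Q : Subgroup G) = P := le_antisymm hQP hPQ
  exact ⟨Q, hQeq ▸ hPM, hQeq ▸ hPne, by rw [hQeq]; exact hNP⟩

/-- Odd primes: Glauberman–Thompson. -/
theorem hasNormalPComplement_odd (hmax : IsCoatom M) (hnil : Group.IsNilpotent M)
    (hcore : M.normalCore = ⊥) {p : ℕ} [hp : Fact p.Prime] (hp2 : p ≠ 2) (hpM : p ∣ Nat.card M) :
    Cfsg.HasNormalPComplement p G := by
  haveI := hnil
  have hmaxN : ∀ R : Subgroup G, R ≤ M → R ≠ ⊥ → M ≤ normalizer (R : Set G) →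
      normalizer (R : Set G) = M := fun R => normalizer_eq hmax hcore
  obtain ⟨Q, hQM, hQne, hQN⟩ := exists_sylow hmax hnil hcore hpM
  refine PComplement.zjAComplement hp2 Q ?_
  set J := Cfsg.thompsonSubgroupAOf (Q : Subgroup G) with hJ
  have hJne : J ≠ ⊥ := by
    haveI : Nontrivial (Q : Subgroup G) := (nontrivial_iff_ne_bot _).2 hQne
    have h1 := (PComplement.isCharPFunctor_jA (p := p)).1 (Q : Subgroup G) Q.2 ‹_›
    intro e
    refine h1 (map_injective (Q : Subgroup G).subtype_injective ?_)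
    rw [Subgroup.map_bot]
    exact e
  have hJP : J ≤ (Q : Subgroup G) := PGroup.thompsonSubgroupAOf_le _
  have hWne : Cfsg.centerThompsonAOf (Q : Subgroup G) ≠ ⊥ :=
    PComplement.zOf_ne_bot (Q.2.to_le hJP) hJne
  have hW : normalizer (Cfsg.centerThompsonAOf (Q : Subgroup G) : Set G) = M := by
    refine hmaxN _ (inf_le_left.trans (hJP.trans hQM)) hWne ?_
    exact hQN.ge.trans ((PGroup.normalizer_le_normalizer_thompsonAOf _).trans
      (PComplement.normalizer_le_normalizer_zOf _))
  rw [hW]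
  exact Solvable.hasNormalPComplement_of_isNilpotent p

/-- Class at most two: every prime. -/
theorem hasNormalPComplement_class_two (hmax : IsCoatom M) (hnil : Group.IsNilpotent M)
    (hcore : M.normalCore = ⊥) (hcl : ∀ x ∈ M, ∀ y ∈ M, ∀ z ∈ M, Commute (x * y * x⁻¹ * y⁻¹) z)
    {p : ℕ} [hp : Fact p.Prime] (hpM : p ∣ Nat.card M) : Cfsg.HasNormalPComplement p G := by
  classical
  haveI := hnil
  obtain ⟨Q, hQM, hQne, hQN⟩ := exists_sylow hmax hnil hcore hpM
  set S := (Q : Subgroup G) with hS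
  have hnormS : ∀ m ∈ M, ∀ d ∈ S, m * d * m⁻¹ ∈ S := fun m hm d hd =>
    (mem_normalizer_iff.1 (hQN.ge hm : m ∈ normalizer (S : Set G)) d).1 hd
  have hown : ∀ m ∈ M, ∃ y ∈ S, ∀ a ∈ S, y⁻¹ * a * y = m⁻¹ * a * m := by
    intro m hm
    obtain ⟨P', K, hK, hKc⟩ := Solvable.hasNormalPComplement_of_isNilpotent (G := M) p
    haveI := hK
    haveI : (Q.subtype hQM : Subgroup M).Normal :=
      (Q.subtype hQM).normal_of_normalizerCondition Group.normalizerCondition_of_isNilpotent
    haveI : Subsingleton (Sylow p M) :=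
      Sylow.unique_of_normal (Q.subtype hQM) inferInstance |>.instSubsingleton
    obtain rfl : P' = Q.subtype hQM := Subsingleton.elim _ _
    obtain ⟨⟨k, s⟩, hks : (k : M) * (s : M) = ⟨m, hm⟩⟩ := hKc.surjective ⟨m, hm⟩
    refine ⟨((s : M) : G), s.2, fun a ha => ?_⟩
    have hm' : ((k : M) : G) * ((s : M) : G) = m := congrArg Subtype.val hks
    have hc : Commute (k : M) (⟨a, hQM ha⟩ : M) :=
      PCore.commute_of_normal_of_disjoint hK inferInstance hKc.disjoint k.2 ha
    have hc' : ((k : M) : G) * a = a * ((k : M) : G) := congrArg Subtype.val hc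
    rw [← hm', mul_inv_rev]
    calc ((s : M) : G)⁻¹ * a * ((s : M) : G)
        = ((s : M) : G)⁻¹ * ((k : M) : G)⁻¹ * (((k : M) : G) * a) * ((s : M) : G) := by group
      _ = _ := by rw [hc']; group
  have hfam : ∀ D : Subgroup G, Transfer.IsGoldschmidt Q D → D ≠ ⊥ →
      normalizer (D : Set G) = M := by
    intro D hD hne
    obtain ⟨hDS, hcen, ⟨-, -, hcomm, -, hsup⟩, -⟩ := hD
    set O := (Cfsg.pPrimeCore p ↥(normalizer (D : Set G))).map (normalizer (D : Set G)).subtype
    have hOcop : (Nat.card O).Coprime p := by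
      rw [card_map_of_injective (Subgroup.subtype_injective _)]
      exact PCore.coprime_card_pPrimeCore
    have hin : ∀ z ∈ S, z ∈ centralizer (D : Set G) → z ∈ D := by
      intro z hzS hzC
      have h1 : z ∈ O ⊔ D := hsup.ge (hcen hzC)
      have hOD : O ≤ normalizer (D : Set G) := map_subtype_le _
      rw [← SetLike.mem_coe, coe_mul_of_left_le_normalizer_right O D hOD] at h1
      obtain ⟨o, ho, d, hd, hod⟩ := h1
      simp only at hod
      have h2 : o ∈ S := by
        rw [eq_mul_inv_of_mul_eq hod]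
        exact mul_mem hzS (inv_mem (hDS hd))
      obtain ⟨k, hk⟩ := IsPGroup.iff_card.1 Q.2
      have h3 : o = 1 := orderOf_eq_one_iff.1 (Nat.eq_one_of_dvd_coprimes (hOcop.pow_right k)
        (orderOf_dvd_natCard _ ho) (hk ▸ orderOf_dvd_natCard _ h2))
      rw [← hod, h3, one_mul]
      exact hd
    refine normalizer_eq hmax hcore (hDS.trans hQM) hne fun m hm => ?_
    have key : ∀ n ∈ M, ∀ d ∈ D, n * d * n⁻¹ ∈ D := by
      intro n hn d hd
      have h1 : n * d * n⁻¹ * d⁻¹ ∈ D := hin _ (mul_mem (hnormS n hn d (hDS hd)) (inv_mem (hDS hd)))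
        (mem_centralizer_iff.2 fun y hy =>
          (hcl n hn d (hQM (hDS hd)) y (hQM (hDS hy))).eq.symm)
      simpa using mul_mem h1 hd
    rw [mem_normalizer_iff]
    refine fun x => ⟨key m hm x, fun h => ?_⟩
    have h1 := key _ (inv_mem hm) _ h
    rwa [show m⁻¹ * (m * x * m⁻¹) * m⁻¹⁻¹ = x by group] at h1
  have hchain : ∀ (A : Set G) (g : G), Transfer.FusionChain (Transfer.IsGoldschmidt Q) A g →
      ∃ y ∈ S, ∀ a ∈ A, y⁻¹ * a * y = g⁻¹ * a * g := by
    intro A g h
    induction h with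
    | one A => exact ⟨1, one_mem _, fun a _ => rfl⟩
    | @step A D x h hD hA hx _ ih =>
      obtain ⟨z, hz, he'⟩ := ih
      obtain ⟨y, hy, he⟩ : ∃ y ∈ S, ∀ a ∈ A, y⁻¹ * a * y = x⁻¹ * a * x := by
        by_cases hne : D = ⊥
        · refine ⟨1, one_mem _, fun a ha => ?_⟩
          have : a = 1 := mem_bot.1 (hne ▸ hA ha)
          subst this
          simp
        · obtain ⟨y, hy, he⟩ := hown x (hfam D hD hne ▸ hx)
          exact ⟨y, hy, fun a ha => he a (hD.1 (hA ha))⟩
      refine ⟨y * z, mul_mem hy hz, fun a ha => ?_⟩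
      have h1 := he' (x⁻¹ * a * x) ⟨a, ha, rfl⟩
      calc (y * z)⁻¹ * a * (y * z) = z⁻¹ * (y⁻¹ * a * y) * z := by group
        _ = z⁻¹ * (x⁻¹ * a * x) * z := by rw [he a ha]
        _ = h⁻¹ * (x⁻¹ * a * x) * h := h1
        _ = (x * h)⁻¹ * a * (x * h) := by group
  refine Transfer.hasNormalPComplement_of_own_fusion Q fun x hx g hg => ?_
  obtain ⟨c, hc, hch⟩ := Transfer.alperin_goldschmidt Q {x} g⁻¹
    (fun a ha => by rw [Set.mem_singleton_iff.1 ha]; exact hx)
    (fun a ha => by rw [Set.mem_singleton_iff.1 ha, inv_inv]; exact hg)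
  obtain ⟨y, hy, he⟩ := hchain _ _ hch
  refine ⟨y⁻¹, inv_mem hy, ?_⟩
  rw [inv_inv, he x rfl]
  have hcx : x * c = c * x := mem_centralizer_iff.1 hc x rfl
  calc (c⁻¹ * g⁻¹)⁻¹ * x * (c⁻¹ * g⁻¹) = g * (c * x) * c⁻¹ * g⁻¹ := by group
    _ = g * x * g⁻¹ := by rw [← hcx]; group

/-- The end game. -/
theorem isSolvable_of_complements (hmax : IsCoatom M) (hnil : Group.IsNilpotent M)
    (hcompl : ∀ p : ℕ, p.Prime → p ∣ Nat.card M → Cfsg.HasNormalPComplement p G) :
    Group.IsSolvable G := by
  classical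
  haveI := hnil
  set S := (Nat.card M).primeFactors
  set K : Subgroup G := ⨅ p : S, Cfsg.pResidual p.1 G with hKdef
  haveI hK : ∀ p : S, (Cfsg.pResidual p.1 G).Normal := fun p => Transfer.pResidual_normal p.1
  haveI : K.Normal := normal_iInf_normal hK
  have hcopK : (Nat.card M).Coprime (Nat.card K) := by
    refine Nat.coprime_of_dvd fun p hp hpM hpK => ?_
    haveI : Fact p.Prime := ⟨hp⟩
    obtain ⟨x, hx⟩ := exists_prime_orderOf_dvd_card' (G := K) p hpK
    have hxr : (x : G) ∈ Cfsg.pResidual p G :=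
      (mem_iInf.1 x.2) ⟨p, Nat.mem_primeFactors.2 ⟨hp, hpM, Nat.card_pos.ne'⟩⟩
    have h1 := (Transfer.mem_pResidual_iff (hcompl p hp hpM) _).1 hxr
    rw [Subgroup.orderOf_coe, hx, Nat.coprime_self] at h1
    exact hp.ne_one h1
  have hKM : ∀ x, x ∈ K → x ∈ M → x = 1 := fun x hxK hxM =>
    orderOf_eq_one_iff.1 (Nat.eq_one_of_dvd_coprimes hcopK
      (orderOf_dvd_natCard _ hxM) (orderOf_dvd_natCard _ hxK))
  have hKsol : Group.IsSolvable K := by
    by_cases hKbot : K = ⊥
    · rw [hKbot]; infer_instance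
    obtain ⟨r, hr, hrK⟩ := Nat.exists_prime_and_dvd (fun h => hKbot (card_eq_one.1 h) : Nat.card K ≠ 1)
    haveI : Fact r.Prime := ⟨hr⟩
    have hMK : M ≤ normalizer (K : Set G) := by rw [Subgroup.normalizer_eq_top]; exact le_top
    haveI : Group.IsSolvable M := inferInstance
    obtain ⟨R, hR⟩ := Coprime.exists_invariant_sylow hMK hcopK (Or.inl inferInstance) r
    set R' := (R : Subgroup K).map K.subtype with hR'
    have hR'K : R' ≤ K := map_subtype_le _
    have hR'ne : R' ≠ ⊥ := fun e =>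
      R.ne_bot_of_dvd_card hrK (map_injective K.subtype_injective (by rw [Subgroup.map_bot]; exact e))
    have htop : M ⊔ R' = ⊤ := (hmax.le_iff.1 le_sup_left).resolve_right fun e =>
      hR'ne ((Subgroup.eq_bot_iff_forall _).2 fun x hx => hKM x (hR'K hx) (e ▸ mem_sup_right hx))
    have hKR : K ≤ R' := fun k hk => by
      have h1 : k ∈ ((M ⊔ R' : Subgroup G) : Set G) := by rw [htop]; trivial
      rw [Subgroup.coe_mul_of_left_le_normalizer_right M R' hR] at h1
      obtain ⟨m, hm, x, hx, rfl⟩ := h1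
      have h2 : m ∈ K := (mul_mem_cancel_right (hR'K hx)).1 hk
      rw [hKM m h2 hm]
      simpa using hx
    have : IsPGroup r K := (R.2.map K.subtype).to_le hKR
    haveI := this.isNilpotent
    infer_instance
  have hQsol : Group.IsSolvable (G ⧸ K) := by
    have hker : ((MonoidHom.pi fun p : S => QuotientGroup.mk' (Cfsg.pResidual p.1 G))).ker = K := by
      ext x
      simp [MonoidHom.mem_ker, funext_iff, hKdef, mem_iInf, QuotientGroup.eq_one_iff]
    have : ∀ p : S, Group.IsNilpotent (G ⧸ Cfsg.pResidual p.1 G) := fun p => by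
      haveI : Fact p.1.Prime := ⟨Nat.prime_of_mem_primeFactors p.2⟩
      exact (Transfer.isPGroup_quotient_pResidual (G := G) p.1).isNilpotent
    haveI : Group.IsSolvable ((p : S) → G ⧸ Cfsg.pResidual p.1 G) := inferInstance
    exact Group.isSolvable_of_isSolvable_injective
      (f := QuotientGroup.lift K (MonoidHom.pi fun p : S => QuotientGroup.mk' (Cfsg.pResidual p.1 G)) hker.ge)
      ((MonoidHom.ker_eq_bot_iff _).1 (by rw [QuotientGroup.ker_lift, hker, QuotientGroup.map_mk'_self]))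
  exact Group.isSolvable_of_ker_le_range K.subtype (QuotientGroup.mk' K) (by simp)

theorem isSolvable_of_quotient (hnil : Group.IsNilpotent M) (hmax : IsCoatom M)
    (ih : Group.IsNilpotent (M.map (QuotientGroup.mk' M.normalCore)) →
      IsCoatom (M.map (QuotientGroup.mk' M.normalCore)) → Group.IsSolvable (G ⧸ M.normalCore)) :
    Group.IsSolvable G := by
  set N := M.normalCore
  haveI := hnil
  haveI : Group.IsNilpotent N :=
    Group.nilpotent_of_mulEquiv (subgroupOfEquivOfLe (normalCore_le M))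
  have hker : (QuotientGroup.mk' N).ker ≤ M := by
    rw [QuotientGroup.ker_mk']; exact normalCore_le M
  have hcoat : IsCoatom (M.map (QuotientGroup.mk' N)) := by
    refine ⟨fun e => hmax.1 ?_, fun B hB => ?_⟩
    · rw [← comap_map_eq_self hker, e, comap_top]
    · have h1 : M < B.comap (QuotientGroup.mk' N) := by
        refine lt_of_le_of_ne (map_le_iff_le_comap.1 hB.le) fun e => hB.ne ?_
        exact (congrArg (map (QuotientGroup.mk' N)) e).trans
          (map_comap_eq_self_of_surjective (QuotientGroup.mk'_surjective N) B)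
      rw [← map_comap_eq_self_of_surjective (QuotientGroup.mk'_surjective N) B, hmax.2 _ h1,
        map_top_of_surjective _ (QuotientGroup.mk'_surjective N)]
  have hQ := ih (Group.nilpotent_of_surjective ((QuotientGroup.mk' N).subgroupMap M)
    (MonoidHom.subgroupMap_surjective _ _)) hcoat
  exact Group.isSolvable_of_ker_le_range N.subtype (QuotientGroup.mk' N) (by simp)

end Cfsg.Agent.NilpotentMaximal
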